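import Groth.Prelude.Def_EGA43
import Mathlib.AlgebraicGeometry.PullbackCarrier
import Mathlib.Topology.LocallyFinite

/-!
# Openness and universal openness at a point
-/

universe u v w

open CategoryTheory CategoryTheory.Limits AlgebraicGeometry Topology

namespace GrothLib.OpenAt

section top
variable {α : Type u} {β : Type v} {γ : Type w} [TopologicalSpace α] [TopologicalSpace β]
  [TopologicalSpace γ]

theorem comp {g : β → γ} {f : α → β} {x : α} (hf : EGA43.IsOpenAt f x)
    (hg : EGA43.IsOpenAt g (f x)) : EGA43.IsOpenAt (g ∘ f) x := by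
  intro U hU
  rw [Set.image_comp]
  exact hg _ (hf U hU)

theorem of_comp {g : β → γ} {f : α → β} (hf : Continuous f) {x : α}
    (h : EGA43.IsOpenAt (g ∘ f) x) : EGA43.IsOpenAt g (f x) := by
  intro U hU
  refine Filter.mem_of_superset (h _ (hf.continuousAt.preimage_mem_nhds hU)) ?_
  rw [Set.image_comp]
  exact Set.image_mono (Set.image_preimage_subset _ _)

theorem restrictPreimage {f : α → β} {x : α} (h : EGA43.IsOpenAt f x) (s : Set β) (hx : f x ∈ s) :
    EGA43.IsOpenAt (s.restrictPreimage f) ⟨x, hx⟩ := by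
  intro U hU
  obtain ⟨V, hV, hVU⟩ := (mem_nhds_subtype _ _ _).1 hU
  refine (mem_nhds_subtype _ _ _).2 ⟨f '' V, h V hV, ?_⟩
  rintro ⟨b, hb⟩ ⟨a, ha, hab⟩
  dsimp only at hab
  refine ⟨⟨a, show f a ∈ s from hab ▸ hb⟩, hVU ha, Subtype.ext hab⟩

end top

section scheme
variable {X Y : Scheme.{u}}

/-- Universal openness at a point, tested on an arbitrary cartesian square. -/
theorem isOpenAt_of_isPullback {f : X ⟶ Y} {x : X} (h : EGA43.IsUnivOpenAt f x)
    {P Y' : Scheme.{u}} {fst : P ⟶ X} {snd : P ⟶ Y'} {g : Y' ⟶ Y}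
    (sq : IsPullback fst snd f g) (p : P) (hp : fst.base p = x) :
    EGA43.IsOpenAt snd.base p := by
  have h1 := h Y' g (sq.isoPullback.hom.base p) (by
    rw [← hp]
    exact congrArg (fun q : P ⟶ X => q.base p) sq.isoPullback_hom_fst)
  intro U hU
  have h2 := h1 _ (sq.isoPullback.hom.homeomorph.isOpenMap.image_mem_nhds hU)
  have hs : sq.isoPullback.hom ≫ pullback.snd f g = snd := sq.isoPullback_hom_snd
  have e : (pullback.snd f g).base '' (sq.isoPullback.hom.homeomorph '' U) = snd.base '' U := by
    rw [Set.image_image]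
    exact Set.image_congr fun a _ => congrArg (fun q : P ⟶ Y' => q.base a) hs
  rw [e] at h2
  have e2 : (pullback.snd f g).base (sq.isoPullback.hom.base p) = snd.base p :=
    congrArg (fun q : P ⟶ Y' => q.base p) hs
  rwa [← e2]

/-- To prove universal openness at a point one may use any cartesian square over each base change. -/
theorem mk_of_isPullback {f : X ⟶ Y} {x : X}
    (h : ∀ (Y' : Scheme.{u}) (g : Y' ⟶ Y), ∃ (P : Scheme.{u}) (fst : P ⟶ X) (snd : P ⟶ Y'),
      IsPullback fst snd f g ∧ ∀ p : P, fst.base p = x → EGA43.IsOpenAt snd.base p) :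
    EGA43.IsUnivOpenAt f x := by
  intro Y' g x' hx'
  obtain ⟨P, fst, snd, sq, hP⟩ := h Y' g
  let p : P := sq.isoPullback.inv.base x'
  have hp : fst.base p = x := by
    rw [← hx']
    exact congrArg (fun q : pullback f g ⟶ X => q.base x') sq.isoPullback_inv_fst
  have e : (pullback.snd f g).base = snd.base ∘ sq.isoPullback.inv.base := by
    funext a
    exact (congrArg (fun q : pullback f g ⟶ Y' => q.base a) sq.isoPullback_inv_snd).symm
  intro U hU
  have h2 := hP p hp _ (sq.isoPullback.inv.homeomorph.isOpenMap.image_mem_nhds hU)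
  have e' : snd.base '' (sq.isoPullback.inv.homeomorph '' U) = (pullback.snd f g).base '' U := by
    rw [e, Set.image_comp]; rfl
  rw [e'] at h2
  have e2 : snd.base p = (pullback.snd f g).base x' := (congrFun e x').symm
  rwa [← e2]

theorem univOpenAt_baseChange {f : X ⟶ Y} {x : X} (h : EGA43.IsUnivOpenAt f x)
    {P Y' : Scheme.{u}} {fst : P ⟶ X} {snd : P ⟶ Y'} {g : Y' ⟶ Y}
    (sq : IsPullback fst snd f g) (p : P) (hp : fst.base p = x) :
    EGA43.IsUnivOpenAt snd p := by
  refine mk_of_isPullback fun Z k => ⟨pullback snd k, pullback.fst _ _, pullback.snd _ _,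
    IsPullback.of_hasPullback _ _, fun q hq => ?_⟩
  exact isOpenAt_of_isPullback h ((IsPullback.of_hasPullback snd k).paste_horiz sq) q
    (by rw [Scheme.Hom.comp_apply]; rw [hq, hp])

theorem univOpenAt_comp {Z : Scheme.{u}} {f : X ⟶ Y} {g : Y ⟶ Z} {x : X}
    (hf : EGA43.IsUnivOpenAt f x) (hg : EGA43.IsUnivOpenAt g (f.base x)) :
    EGA43.IsUnivOpenAt (f ≫ g) x := by
  refine mk_of_isPullback fun Z' k => ⟨pullback f (pullback.fst g k), pullback.fst _ _,
    pullback.snd _ _ ≫ pullback.snd _ _, ?_, fun q hq => ?_⟩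
  · exact (IsPullback.of_hasPullback _ _).paste_vert (IsPullback.of_hasPullback _ _)
  · have h1 : EGA43.IsOpenAt (pullback.snd f (pullback.fst g k)).base q :=
      hf _ _ q hq
    have h2 : EGA43.IsOpenAt (pullback.snd g k).base ((pullback.snd f (pullback.fst g k)).base q) := by
      refine hg _ _ _ ?_
      have := congrArg (fun r : pullback f (pullback.fst g k) ⟶ Y => r.base q)
        (pullback.condition (f := f) (g := pullback.fst g k))
      simp only [Scheme.Hom.comp_apply] at this
      rw [← this, hq]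
    have h3 := comp h1 h2
    have e : ⇑(pullback.snd f (pullback.fst g k) ≫ pullback.snd g k).base =
        ⇑(pullback.snd g k).base ∘ ⇑(pullback.snd f (pullback.fst g k)).base := by
      funext a; exact Scheme.Hom.comp_apply _ _ _
    rw [e]; exact h3

theorem univOpenAt_of_comp {Z : Scheme.{u}} {f : X ⟶ Y} {g : Y ⟶ Z} {x : X}
    (h : EGA43.IsUnivOpenAt (f ≫ g) x) : EGA43.IsUnivOpenAt g (f.base x) := by
  intro Z' k y' hy'
  obtain ⟨q, hq1, hq2⟩ := Scheme.Pullback.exists_preimage_pullback (f := f) (g := pullback.fst g k)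
    x y' hy'.symm
  have h1 := isOpenAt_of_isPullback h
    ((IsPullback.of_hasPullback f (pullback.fst g k)).paste_vert (IsPullback.of_hasPullback g k)) q hq1
  have e : ⇑(pullback.snd f (pullback.fst g k) ≫ pullback.snd g k).base =
      ⇑(pullback.snd g k).base ∘ ⇑(pullback.snd f (pullback.fst g k)).base := by
    funext a; exact Scheme.Hom.comp_apply _ _ _
  rw [e] at h1
  exact hq2 ▸ of_comp (pullback.snd f (pullback.fst g k)).continuous h1

/-- Openness at a point descends along a closed surjection. -/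
theorem isOpenAt_of_baseChange_closed {Y₁ : Scheme.{u}} {f : X ⟶ Y} {v : Y₁ ⟶ Y}
    (hv : IsClosedMap v.base) (hs : Function.Surjective v.base)
    {P : Scheme.{u}} {fst : P ⟶ X} {snd : P ⟶ Y₁}
    (sq : IsPullback fst snd f v) (x : X)
    (h : ∀ p : P, fst.base p = x → EGA43.IsOpenAt snd.base p) :
    EGA43.IsOpenAt f.base x := by
  intro U hU
  have key : v.base ⁻¹' (f.base '' U) ∈ 𝓝ˢ (v.base ⁻¹' {f.base x}) := by
    rw [mem_nhdsSet_iff_forall]
    intro y hy
    obtain ⟨p, hp1, hp2⟩ := Scheme.exists_preimage_of_isPullback sq x y hy.symm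
    refine Filter.mem_of_superset (hp2 ▸ h p hp1 (fst.base ⁻¹' U)
      (fst.continuous.continuousAt.preimage_mem_nhds (hp1.symm ▸ hU))) ?_
    rintro _ ⟨a, ha, rfl⟩
    exact ⟨fst.base a, ha, by
      have := congrArg (fun r : P ⟶ Y => r.base a) sq.w
      simpa only [Scheme.Hom.comp_apply] using this⟩
  rw [← hv.comap_nhds_eq v.continuous, Filter.mem_comap] at key
  obtain ⟨t, ht, hts⟩ := key
  refine Filter.mem_of_superset ht fun y hy => ?_
  obtain ⟨y₁, rfl⟩ := hs y
  exact hts hy

/-- Universal openness of `pullback.snd f v` at the points over `x` gives openness of the base change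
of `pullback.snd f g` along the base change of `v`. -/
theorem isOpenAt_snd_of_univOpenAt {Y₁ Y' : Scheme.{u}} {f : X ⟶ Y} (v : Y₁ ⟶ Y) (g : Y' ⟶ Y) {x : X}
    (h : ∀ x₁ : ↥(pullback f v), (pullback.fst f v).base x₁ = x →
      EGA43.IsUnivOpenAt (pullback.snd f v) x₁)
    (p : ↥(pullback (pullback.snd f g) (pullback.snd v g)))
    (hp : (pullback.fst f g).base ((pullback.fst _ _ : pullback (pullback.snd f g)
      (pullback.snd v g) ⟶ _).base p) = x) :
    EGA43.IsOpenAt (pullback.snd (pullback.snd f g) (pullback.snd v g)).base p := by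
  let q : pullback (pullback.snd f g) (pullback.snd v g) ⟶ pullback f v :=
    pullback.lift (pullback.fst _ _ ≫ pullback.fst _ _) (pullback.snd _ _ ≫ pullback.fst _ _)
      (by simp only [Category.assoc, pullback.condition]
          rw [← Category.assoc, pullback.condition, Category.assoc])
  have hq : IsPullback q (pullback.snd (pullback.snd f g) (pullback.snd v g))
      (pullback.snd f v) (pullback.fst v g) := by
    refine IsPullback.of_right ?_ ?_ (IsPullback.of_hasPullback f v)
    · rw [pullback.lift_fst, pullback.condition (f := v)]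
      exact (IsPullback.of_hasPullback _ _).paste_horiz (IsPullback.of_hasPullback f g)
    · rw [pullback.lift_snd]
  refine isOpenAt_of_isPullback (h (q.base p) ?_) hq p rfl
  rw [← Scheme.Hom.comp_apply, pullback.lift_fst, Scheme.Hom.comp_apply, hp]

end scheme

end GrothLib.OpenAt
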